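import Groth.Prelude.Def_ExtPow2
import Groth.Agent.H23.Frame
import Groth.Agent.InvX.Tensor
import Mathlib.LinearAlgebra.ExteriorPower.Basis

/-! Top exterior powers of locally free modules are invertible. -/

set_option linter.style.haveILetI false
set_option backward.isDefEq.respectTransparency false
set_option backward.isDefEq.respectTransparency.types false

universe u

open CategoryTheory AlgebraicGeometry TopologicalSpace Opposite

namespace Groth.Agent.CanonTriv

theorem bijective_smul_ιMulti {R M : Type u} [CommRing R] [AddCommGroup M] [Module R M] {n : ℕ}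
    (b : Module.Basis (Fin n) R M) :
    Function.Bijective fun r : R => r • exteriorPower.ιMulti R n (fun i => b i) := by
  classical
  let B := b.exteriorPower n
  let s₀ : Set.powersetCard (Fin n) n := ⟨Finset.univ, by simp⟩
  haveI : Unique (Set.powersetCard (Fin n) n) :=
    { default := s₀
      uniq := fun s => Subtype.ext (Finset.eq_univ_of_card _ (by rw [s.2]; simp)) }
  have hid : ∀ σ : Fin n ↪o Fin n, ⇑σ = id := fun σ =>
    (StrictMono.range_inj σ.strictMono strictMono_id).1 (by
      rw [Set.range_id, Set.range_eq_univ]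
      exact Finite.surjective_of_injective σ.injective)
  have h0 : B s₀ = exteriorPower.ιMulti R n (fun i => b i) := by
    rw [exteriorPower.basis_apply, exteriorPower.ιMulti_family, hid]; rfl
  refine ⟨fun r r' h => ?_, fun z => ⟨B.repr z s₀, ?_⟩⟩
  · have h' : r • B s₀ = r' • B s₀ := by rw [h0]; exact h
    have h'' := congrArg (fun z => B.repr z s₀) h'
    simpa using h''
  · show B.repr z s₀ • exteriorPower.ιMulti R n (fun i => b i) = z
    rw [← h0]
    conv_rhs => rw [← B.sum_repr z]
    rw [Fintype.sum_subsingleton _ s₀]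

variable {X : Scheme.{u}}

theorem isInvertible_of_isExtPow_top {n : ℕ} {E L : X.Modules} (hE : FlatMod.IsFinLocFreeOfRank n E)
    (hL : ExtPow.IsExtPow n E L) : PicF.IsInvertible L := by
  obtain ⟨φ, hφ⟩ := hL
  refine InvX.isInvertible_of_frames fun x => ?_
  obtain ⟨U, hxU, ⟨e⟩⟩ := hE x
  obtain ⟨s, hs⟩ := H23.Frame.exists_frame e
  obtain ⟨_, ⟨V, hV, rfl⟩, hxV, hle⟩ :=
    X.isBasis_affineOpens.exists_subset_of_mem_open (show x ∈ U from hxU) U.2
  let t : Fin n → E.val.obj (op V) := fun i => E.val.map (homOfLE (hle : V ≤ U)).op (s i)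
  let g : Γ(L, V) := (φ ⟨V, hV⟩).symm (exteriorPower.ιMulti Γ(X, V) n t)
  have key : ∀ (W : X.Opens) (hW : IsAffineOpen W) (h : W ≤ V),
      Function.Bijective fun r : Γ(X, W) => r • AModX.res L h g := by
    intro W hW h
    let w : Fin n → E.val.obj (op W) := fun i => E.val.map (homOfLE h).op (t i)
    have hw : AModX.res L h g = (φ ⟨W, hW⟩).symm (exteriorPower.ιMulti Γ(X, W) n w) :=
      hφ ⟨V, hV⟩ ⟨W, hW⟩ h t
    have hwi : ∀ i, w i = (show E.val.obj (op W) from
        E.presheaf.map (homOfLE ((h.trans hle : W ≤ U))).op (s i)) := by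
      intro i
      show E.presheaf.map (homOfLE h).op (E.presheaf.map (homOfLE (hle : V ≤ U)).op (s i)) = _
      rw [← ConcreteCategory.comp_apply, ← E.presheaf.map_comp]
      rfl
    let l : (Fin n → Γ(X, W)) →ₗ[Γ(X, W)] E.val.obj (op W) := Fintype.linearCombination Γ(X, W) w
    have hl : Function.Bijective l := by
      refine (congrArg Function.Bijective (funext fun c => ?_)).mp (hs W (h.trans hle))
      simp only [l, Fintype.linearCombination_apply, H23.Frame.comb]
      refine Finset.sum_congr rfl fun i _ => ?_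
      rw [hwi]
    let b : Module.Basis (Fin n) Γ(X, W) (E.val.obj (op W)) :=
      Module.Basis.ofEquivFun (LinearEquiv.ofBijective l hl).symm
    have hb : (fun i => b i) = w := by
      funext i
      simp [b, l, Fintype.linearCombination_apply, Pi.single_apply]
    have h1 := bijective_smul_ιMulti b
    rw [hb] at h1
    refine (congrArg Function.Bijective (funext fun r => ?_)).mp ((φ ⟨W, hW⟩).symm.bijective.comp h1)
    show (φ ⟨W, hW⟩).symm (r • exteriorPower.ιMulti Γ(X, W) n w) = r • AModX.res L h g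
    rw [map_smul, hw]
  refine ⟨V, hxV, g, InvX.isFrame_of_germ fun y hy => ?_⟩
  constructor
  · intro c c' hcc
    obtain ⟨W₁, h₁, a, rfl⟩ := X.presheaf.exists_germ_eq (x := y) c
    obtain ⟨W₂, h₂, b, rfl⟩ := X.presheaf.exists_germ_eq (x := y) c'
    let W := W₁ ⊓ W₂ ⊓ V
    have hyW : y ∈ W := ⟨⟨h₁, h₂⟩, hy⟩
    have e₁ := X.presheaf.germ_res_apply (homOfLE ((inf_le_left.trans inf_le_left : W ≤ W₁))) y hyW a
    have e₂ := X.presheaf.germ_res_apply (homOfLE ((inf_le_left.trans inf_le_right : W ≤ W₂))) y hyW b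
    rw [← e₁, ← e₂] at hcc ⊢
    dsimp only at hcc
    rw [← InvX.germ_res' (inf_le_right : W ≤ V) hyW g, ← QCoh.germ_smul', ← QCoh.germ_smul'] at hcc
    obtain ⟨W', hyW', i₁, i₂, hE'⟩ := L.presheaf.germ_eq y hyW hyW _ _ hcc
    obtain ⟨_, ⟨A, hA, rfl⟩, hyA, hAle⟩ :=
      X.isBasis_affineOpens.exists_subset_of_mem_open (show y ∈ W' from hyW') W'.2
    have hAW : A ≤ W := (hAle : A ≤ W').trans i₁.le
    have h3 : X.presheaf.map (homOfLE hAW).op (X.presheaf.map (homOfLE ((inf_le_left.trans inf_le_left : W ≤ W₁))).op a) =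
        X.presheaf.map (homOfLE hAW).op (X.presheaf.map (homOfLE ((inf_le_left.trans inf_le_right : W ≤ W₂))).op b) := by
      apply (key A hA (hAW.trans inf_le_right)).1
      have h4 := congrArg (L.presheaf.map (homOfLE (hAle : A ≤ W')).op) hE'
      simp only [← ConcreteCategory.comp_apply, ← L.presheaf.map_comp] at h4
      have h5 : ∀ r : Γ(X, W), X.presheaf.map (homOfLE hAW).op r • AModX.res L (hAW.trans inf_le_right) g =
          L.presheaf.map (homOfLE hAW).op (r • AModX.res L (inf_le_right : W ≤ V) g) := by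
        intro r
        rw [Scheme.Modules.map_smul]
        congr 1
        show _ = L.presheaf.map (homOfLE hAW).op (L.presheaf.map (homOfLE (inf_le_right : W ≤ V)).op g)
        rw [← ConcreteCategory.comp_apply, ← L.presheaf.map_comp]
        rfl
      show _ • _ = _ • _
      rw [h5, h5]
      exact h4
    have h6 := congrArg (X.presheaf.germ A y hyA) h3
    rw [X.presheaf.germ_res_apply (homOfLE hAW), X.presheaf.germ_res_apply (homOfLE hAW)] at h6
    exact h6
  · intro z
    obtain ⟨W, hyW, m, rfl⟩ := L.presheaf.exists_germ_eq (x := y) z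
    obtain ⟨_, ⟨A, hA, rfl⟩, hyA, hAle⟩ :=
      X.isBasis_affineOpens.exists_subset_of_mem_open (show y ∈ W ⊓ V from ⟨hyW, hy⟩) (W ⊓ V).2
    obtain ⟨r, hr⟩ := (key A hA ((hAle : A ≤ W ⊓ V).trans inf_le_right)).2
      (AModX.res L ((hAle : A ≤ W ⊓ V).trans inf_le_left) m)
    refine ⟨X.presheaf.germ A y hyA r, ?_⟩
    show _ • L.presheaf.germ V y hy g = _
    rw [← InvX.germ_res' ((hAle : A ≤ W ⊓ V).trans inf_le_right) hyA g, ← QCoh.germ_smul']
    exact (congrArg (L.presheaf.germ A y hyA) hr).trans (InvX.germ_res' _ hyA m)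

end Groth.Agent.CanonTriv
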