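import Groth.Agent.CanonTriv.TopPow
import Groth.Agent.S5019
import Groth.Agent.Synt29.SmoothDim
import Groth.Agent.OmegaUniv.Universal
import Groth.Agent.H23.RigidGamma
import Groth.Agent.H23.SecUniv
import Groth.Agent.S16758
import Groth.Agent.PnCoh.Chow.Proper
import Groth.Prelude.Def_Canon
import Groth.Prelude.Def_RedSub

/-! Canonical sheaves of locally projective smooth morphisms with geometrically connected fibres. -/

set_option linter.style.haveILetI false
set_option backward.isDefEq.respectTransparency false
set_option backward.isDefEq.respectTransparency.types false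

universe u

open CategoryTheory CategoryTheory.Limits AlgebraicGeometry TopologicalSpace

namespace Groth.Agent.CanonTriv

theorem isInvertible_of_isTopDiff {X S : Scheme.{u}} (f : X ⟶ S) (n : ℕ) [SmoothOfRelativeDimension n f]
    [QuasiSeparated f]
    {ω : X.Modules} (hω : Canon.IsTopDiff f n ω) : PicF.IsInvertible ω := by
  haveI : Smooth f := SmoothOfRelativeDimension.smooth n f
  refine isInvertible_of_isExtPow_top (fun x => ?_) hω
  obtain ⟨U, m, hx, he, hm⟩ := Groth.Agent.S5019.result f (Omega.sheaf f) (OmegaSh.dOmega f)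
    (OmegaUniv.isUniversal_dOmega f) x
  haveI : SmoothOfRelativeDimension n ((⊤ : X.Opens).ι ≫ f) :=
    (Nat.zero_add n) ▸ (inferInstance : SmoothOfRelativeDimension (0 + n) ((⊤ : X.Opens).ι ≫ f))
  have h := (Synt29.SmoothDim.fibreDimAt_eq_of_nhd f ⊤ n (x := x) trivial).symm.trans hm
  obtain rfl : n = m := by exact_mod_cast h
  exact ⟨U, hx, he⟩

theorem isProper_of_isLocallyProjective {X S : Scheme.{u}} (f : X ⟶ S)
    (h : RedSub.IsLocallyProjective (Over.mk f)) : IsProper f := by
  choose V hV n e he hec using h
  refine IsZariskiLocalAtTarget.of_iSup_eq_top (P := @IsProper) V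
    (top_le_iff.1 fun s _ => Opens.mem_iSup.2 ⟨s, hV s⟩) fun s => ?_
  haveI := he s
  haveI : IsProper (CohB1.ProjSpace.toSpec (n s) (ULift.{u} ℤ)) := PnCoh.Chow.isProper_toSpec (n s) _
  haveI : IsProper (CohB1.ProjSpaceOver.toBase (n s) (V s : Scheme.{u})) :=
    MorphismProperty.pullback_snd _ _ inferInstance
  haveI hP : IsProper (Red.bc (V s).ι (Over.mk f)).hom := by rw [← hec s]; infer_instance
  have hpb : IsPullback (pullbackRestrictIsoRestrict f (V s)).inv (f ∣_ V s)
      (pullback.snd f (V s).ι) (𝟙 _) :=
    IsPullback.of_horiz_isIso ⟨by rw [Category.comp_id]; rfl⟩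
  exact MorphismProperty.of_isPullback (P := @IsProper) hpb hP

theorem finrank_fibre_eq_one {X S : Scheme.{u}} (f : X ⟶ S) [IsLocallyNoetherian S] [IsProper f] [Smooth f]
    [GeometricallyConnected f] (s : S) : Module.finrank (S.residueField s) Γ(f.fiber s, ⊤) = 1 := by
  haveI : GeometricallyReduced f := H23.RigidGamma.geometricallyReduced_of_smooth f
  refine (Groth.Agent.S16758.result f).2 (H23.SecUniv.isIso_app_snd f fun y => ?_) s
  let v := pullback.snd f (S.fromSpecResidueField y)
  let t := Spec.map (CommRingCat.ofHom (algebraMap (S.residueField y) (AlgebraicClosure (S.residueField y))))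
  haveI : Subsingleton (Spec (CommRingCat.of (S.residueField y))) :=
    inferInstanceAs (Subsingleton (PrimeSpectrum (S.residueField y)))
  haveI : ConnectedSpace ↥(pullback v t) :=
    GeometricallyConnected.geometrically_connectedSpace (f := v) _ _ _ (.of_hasPullback _ _)
  haveI : Smooth (pullback.snd v t) := inferInstance
  haveI : IsReduced (pullback v t) := H23.RigidGamma.isReduced_of_smooth (pullback.snd v t)
  exact H23.RigidGamma.bijective_appTop_of_algClosure v

end Groth.Agent.CanonTriv
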